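import Cfsg.Prelude.Def_Classification2
import Cfsg.Agent.H777.Ore.Base

/-!
# Assembly frame for S2443 (all elements are commutators) and S4171 (four involutions) (helper459)

`Rows P` has one field for every family of `IsKnownSimple'`; `Rows.main` is the case distinction.
Fill the fields with the landed row theorems.
-/

set_option autoImplicit false

namespace Cfsg.Agent.H459.Ore

open Cfsg.Agent.H777.Ore

universe u

/-- the sporadic rows -/
structure SporRows (P : (G : Type u) → [Group G] → Prop) : Prop where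
  m11 : ∀ {G : Type u} [Group G], Spor.IsoM11 G → P G
  m12 : ∀ {G : Type u} [Group G], Spor.IsoM12 G → P G
  m22 : ∀ {G : Type u} [Group G], Spor.IsoM22 G → P G
  m23 : ∀ {G : Type u} [Group G], Spor.IsoM23 G → P G
  m24 : ∀ {G : Type u} [Group G], Spor.IsoM24 G → P G
  j1 : ∀ {G : Type u} [Group G], Spor.IsoJ1 G → P G
  j2 : ∀ {G : Type u} [Group G], Spor.IsoJ2 G → P G
  j3 : ∀ {G : Type u} [Group G], Spor.IsoJ3 G → P G
  j4 : ∀ {G : Type u} [Group G], Spor.IsoJ4 G → P G
  co1 : ∀ {G : Type u} [Group G], Spor.IsoCo1 G → P G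
  co2 : ∀ {G : Type u} [Group G], Spor.IsoCo2 G → P G
  co3 : ∀ {G : Type u} [Group G], Spor.IsoCo3 G → P G
  mcL : ∀ {G : Type u} [Group G], Spor.IsoMcL G → P G
  hS : ∀ {G : Type u} [Group G], Spor.IsoHS G → P G
  suz : ∀ {G : Type u} [Group G], Spor.IsoSuz G → P G
  he : ∀ {G : Type u} [Group G], Spor.IsoHe G → P G
  ru : ∀ {G : Type u} [Group G], Spor.IsoRu G → P G
  oN : ∀ {G : Type u} [Group G], Spor.IsoON G → P G
  ly : ∀ {G : Type u} [Group G], Spor.IsoLy G → P G
  fi22 : ∀ {G : Type u} [Group G], Spor.IsoFi22 G → P G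
  fi23 : ∀ {G : Type u} [Group G], Spor.IsoFi23 G → P G
  fi24 : ∀ {G : Type u} [Group G], Spor.IsoFi24' G → P G
  hN : ∀ {G : Type u} [Group G], Spor.IsoHN G → P G
  th : ∀ {G : Type u} [Group G], Spor.IsoTh G → P G
  b : ∀ {G : Type u} [Group G], Spor.IsoB G → P G
  m : ∀ {G : Type u} [Group G], Spor.IsoM G → P G

/-- the exceptional rows -/
structure ExcRows (P : (G : Type u) → [Group G] → Prop) : Prop where
  g2 : ∀ {G : Type u} [Group G], Lie.IsoChevG2 G → P G
  f4 : ∀ {G : Type u} [Group G], Lie.IsoF4 G → P G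
  e6 : ∀ {G : Type u} [Group G], Lie.IsoChevE6 G → P G
  e7 : ∀ {G : Type u} [Group G], Lie.IsoE7 G → P G
  e8 : ∀ {G : Type u} [Group G], Lie.IsoE8 G → P G
  te6 : ∀ {G : Type u} [Group G], Lie.Iso2E6 G → P G
  td4 : ∀ {G : Type u} [Group G], Lie.Iso3D4 G → P G
  sz : ∀ {G : Type u} [Group G], Lie.IsoSuzuki G → P G
  ree : ∀ {G : Type u} [Group G], Lie.IsoRee G → P G
  tf4 : ∀ {G : Type u} [Group G], Lie.Iso2F4 G → P G
  tits : ∀ {G : Type u} [Group G], Lie.IsoTits G → P G

/-- the classical and alternating rows -/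
structure ClsRows (P : (G : Type u) → [Group G] → Prop) : Prop where
  alt : ∀ {G : Type u} [Group G], IsAlternating G → P G
  psl : ∀ {G : Type u} [Group G], IsPSL G → P G
  psp : ∀ {G : Type u} [Group G], IsPSp G → P G
  psu : ∀ {G : Type u} [Group G], IsPSU G → P G
  poo : ∀ {G : Type u} [Group G], IsPOmegaOdd G → P G
  pop : ∀ {G : Type u} [Group G], IsPOmegaPlus G → P G
  pom : ∀ {G : Type u} [Group G], IsPOmegaMinus G → P G

theorem SporRows.main {P : (G : Type u) → [Group G] → Prop} (R : SporRows P) {G : Type u} [Group G]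
    (h : IsSporadicGroup G) : P G := by
  rcases h with h | h | h | h | h | h | h | h | h | h | h | h | h | h | h | h | h | h | h | h | h | h | h | h | h | h
  · exact R.m11 h
  · exact R.m12 h
  · exact R.m22 h
  · exact R.m23 h
  · exact R.m24 h
  · exact R.j1 h
  · exact R.j2 h
  · exact R.j3 h
  · exact R.j4 h
  · exact R.co1 h
  · exact R.co2 h
  · exact R.co3 h
  · exact R.mcL h
  · exact R.hS h
  · exact R.suz h
  · exact R.he h
  · exact R.ru h
  · exact R.oN h
  · exact R.ly h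
  · exact R.fi22 h
  · exact R.fi23 h
  · exact R.fi24 h
  · exact R.hN h
  · exact R.th h
  · exact R.b h
  · exact R.m h

theorem ExcRows.main {P : (G : Type u) → [Group G] → Prop} (R : ExcRows P) {G : Type u} [Group G]
    (h : IsExceptionalLieType G) : P G := by
  rcases h with h | h | h | h | h | h | h | h | h | h | h
  · exact R.g2 h
  · exact R.f4 h
  · exact R.e6 h
  · exact R.e7 h
  · exact R.e8 h
  · exact R.te6 h
  · exact R.td4 h
  · exact R.sz h
  · exact R.ree h
  · exact R.tf4 h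
  · exact R.tits h

/-- the case distinction for non-abelian known simple groups -/
theorem main {P : (G : Type u) → [Group G] → Prop} (C : ClsRows P) (E : ExcRows P) (S : SporRows P) {G : Type u} [Group G]
    [Finite G] (hG : ¬ IsMulCommutative G) (h : IsKnownSimple' G) : P G := by
  rcases h with h | h | h | h | h | h | h | h | h | h
  · haveI : Fact (Nat.card G).Prime := ⟨h⟩
    haveI := isCyclic_of_prime_card (α := G) rfl
    exact absurd ⟨⟨fun a b => IsCyclic.commGroup.mul_comm a b⟩⟩ hG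
  · exact C.alt h
  · exact C.psl h
  · exact C.psp h
  · exact C.psu h
  · exact C.poo h
  · exact C.pop h
  · exact C.pom h
  · exact E.main h
  · exact S.main h

/-- the final form of S2443 -/
theorem s2443_of {G : Type u} [Group G] (h : AllC G) (g : G) : ∃ a b : G, g = a * b * a⁻¹ * b⁻¹ := h g

theorem ord_of {G : Type*} [Group G] {a : G} (h : a * a = 1) : a = 1 ∨ orderOf a = 2 := by
  by_cases h1 : a = 1
  · exact Or.inl h1
  · refine Or.inr (orderOf_eq_prime ?_ h1)
    rw [pow_two, h]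

/-- the final form of S4171 -/
theorem s4171_of {G : Type u} [Group G] (h : Inv4 G) (g : G) : ∃ t₁ t₂ t₃ t₄ : G, (t₁ = 1 ∨ orderOf t₁ = 2) ∧
    (t₂ = 1 ∨ orderOf t₂ = 2) ∧ (t₃ = 1 ∨ orderOf t₃ = 2) ∧ (t₄ = 1 ∨ orderOf t₄ = 2) ∧ g = t₁ * t₂ * t₃ * t₄ := by
  obtain ⟨a, b, c, d, ha, hb, hc, hd, e⟩ := h g
  exact ⟨a, b, c, d, ord_of ha, ord_of hb, ord_of hc, ord_of hd, e⟩

theorem Inv4.congr {G H : Type*} [Group G] [Group H] (e : G ≃* H) (h : Inv4 G) : Inv4 H := by
  intro x
  obtain ⟨a, b, c, d, ha, hb, hc, hd, hx⟩ := h (e.symm x)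
  refine ⟨e a, e b, e c, e d, ?_, ?_, ?_, ?_, ?_⟩
  · rw [← map_mul, ha, map_one]
  · rw [← map_mul, hb, map_one]
  · rw [← map_mul, hc, map_one]
  · rw [← map_mul, hd, map_one]
  · rw [← map_mul, ← map_mul, ← map_mul, ← hx, MulEquiv.apply_symm_apply]

end Cfsg.Agent.H459.Ore
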