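import Cfsg.Agent.H459.Ore.Frame
import Cfsg.Agent.S2444
import Cfsg.Agent.S2445
import Cfsg.Agent.S2446
import Cfsg.Agent.S2447
import Cfsg.Agent.S2448
import Cfsg.Agent.S2449
import Cfsg.Agent.H134.Ore.Alt

/-!
# Classical and alternating rows of S2443 from S2444-S2449 (helper459)
-/

set_option autoImplicit false

namespace Cfsg.Agent.H459.Ore

open Cfsg.Agent.H777.Ore

universe u

theorem allC_quot {G : Type*} [Group G] (N : Subgroup G) [N.Normal] (h : AllC G) : AllC (G ⧸ N) :=
  AllC.of_surjective (QuotientGroup.mk' N) (QuotientGroup.mk'_surjective N) h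

theorem ore_isPSL {G : Type u} [Group G] (h : IsPSL G) : AllC G := by
  obtain ⟨F, _, _, n, hn, h4, ⟨e⟩⟩ := h
  exact AllC.congr e.symm (allC_quot _ (fun g => Cfsg.Agent.S2444.result n hn h4 g))

theorem ore_isPSp {G : Type u} [Group G] (h : IsPSp G) : AllC G := by
  obtain ⟨F, _, _, m, hm, h3, ⟨e⟩⟩ := h
  exact AllC.congr e.symm (allC_quot _ (fun g => Cfsg.Agent.S2445.result m (by omega) (fun h => by omega) h3 g))

theorem ore_isPSU {G : Type u} [Group G] (h : IsPSU G) : AllC G := by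
  obtain ⟨F, _, _, n, q, hF, hn, hex, ⟨e⟩⟩ := h
  exact AllC.congr e.symm (allC_quot _ (fun g => Cfsg.Agent.S2446.result n q hn hF hex g))

theorem ore_isPOmegaOdd {G : Type u} [Group G] (h : IsPOmegaOdd G) : AllC G := by
  obtain ⟨F, _, _, m, hm, ho, ⟨e⟩⟩ := h
  exact AllC.congr e.symm (allC_quot _ (fun g => Cfsg.Agent.S2447.result ho m hm g))

theorem ore_isPOmegaPlus {G : Type u} [Group G] (h : IsPOmegaPlus G) : AllC G := by
  obtain ⟨F, _, _, m, hm, ⟨e⟩⟩ := h
  exact AllC.congr e.symm (allC_quot _ (fun g => Cfsg.Agent.S2448.result m hm g))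

theorem ore_isPOmegaMinus {G : Type u} [Group G] (h : IsPOmegaMinus G) : AllC G := by
  obtain ⟨F, _, _, m, a, b, hm, hab, ⟨e⟩⟩ := h
  exact AllC.congr e.symm (allC_quot _ (fun g => Cfsg.Agent.S2449.result m hm a b hab g))

theorem ore_isAlternating {G : Type u} [Group G] (h : IsAlternating G) : AllC G := by
  obtain ⟨n, hn, ⟨e⟩⟩ := h
  exact AllC.congr e.symm (Cfsg.Agent.H134.Ore.ore_alt hn)

/-- the classical and alternating rows of the Ore conjecture -/
theorem ore_cls : ClsRows.{u} (fun G _ => AllC G) where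
  alt := ore_isAlternating
  psl := ore_isPSL
  psp := ore_isPSp
  psu := ore_isPSU
  poo := ore_isPOmegaOdd
  pop := ore_isPOmegaPlus
  pom := ore_isPOmegaMinus

end Cfsg.Agent.H459.Ore
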