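import Cfsg.Agent.H6.OreM.Main
import Cfsg.Agent.H529.MSev.FourM
import Cfsg.Agent.H58.Mon.Fin
import Cfsg.Agent.H995.Co1T.FourAll
import Cfsg.Agent.H455.OreM.Loc

/-!
# The rows `M` of S2443 and S4171 from the order table and the classification (helper459)
-/

set_option autoImplicit false

namespace Cfsg.Agent.H459.Ore

open Cfsg Cfsg.Agent.H777.Ore

theorem ore_M (B : Cfsg.Agent.H940.Eng.Base) {S : Type*} [Group S] (h : Spor.IsoM S) : AllC S :=
  Cfsg.Agent.H6.OreM.ore_M_of (Cfsg.Agent.H455.OreM.Deg19.loc B)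
    (fun hq h5 hx => (Cfsg.Agent.H58.MonFin.hB (Cfsg.Agent.H438.Fpr.Mon.allKnown B)
      (Cfsg.Agent.H715.Mon.Grp.sThree B) hq h5 hx).trans (by norm_num)) h

theorem four_M (B : Cfsg.Agent.H940.Eng.Base) {S : Type*} [Group S] (h : Spor.IsoM S) : Inv4 S :=
  Cfsg.Agent.H529.MSev.Row.row_of h (Cfsg.Agent.H529.MSev.four_MG_of B
    (fun x hx _ => Cfsg.Agent.H995.Co1T.four_all x hx)
    (fun hq h5 hx => (Cfsg.Agent.H58.MonFin.hB (Cfsg.Agent.H438.Fpr.Mon.allKnown B)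
      (Cfsg.Agent.H715.Mon.Grp.sThree B) hq h5 hx).trans (by norm_num)))

end Cfsg.Agent.H459.Ore
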