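import Cfsg.Agent.H459.Ore.Frame
import Cfsg.Agent.H538.Ore.Small
import Cfsg.Agent.H143.Ore.TwF
import Cfsg.Agent.H928.Ore.TwAll
import Cfsg.Agent.H85.Ore.EEight
import Cfsg.Agent.H122.Ore.ETwo
import Cfsg.Agent.H267.Ore.ESevenTwo
import Cfsg.Agent.H584.Ore.ESixTwo
import Cfsg.Agent.H150.E6T.Row
import Cfsg.Agent.H194.Ore.RowEF
import Cfsg.Agent.H374.Ore.F4

/-!
# The exceptional rows of S2443 and S4171 (helper459), `F₄(2)` as hypothesis
-/

set_option autoImplicit false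

namespace Cfsg.Agent.H459.Ore

open Cfsg Cfsg.Lie Cfsg.Agent.H777.Ore Matrix

universe u

theorem card_cases {K : Type} [Field K] [Fintype K] :
    Nat.card K = 2 ∨ Nat.card K = 3 ∨ 4 ≤ Nat.card K := by
  have : 1 < Nat.card K := Finite.one_lt_card
  omega

/-- commutators in the exceptional groups, `F₄(2)` as hypothesis -/
theorem exc_allC (h42 : ∀ (K : Type) [Field K] [Finite K], Nat.card K = 2 → AllC ↥(chevF4.group K)) :
    ExcRows.{u} (fun G _ => AllC G) where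
  g2 h := Cfsg.Agent.H538.Ore.ore_g2 h
  f4 h := by
    obtain ⟨K, _, _, ⟨e⟩⟩ := h
    rcases card_cases (K := K) with h2 | h2 | h2
    · exact (h42 K h2).congr e.symm
    · exact (Cfsg.Agent.H374.Ore.F4.row_three h2).1.congr e.symm
    · exact (Cfsg.Agent.H194.Ore.rowF4 h2).1.congr e.symm
  e6 h := by
    obtain ⟨K, _, _, ⟨e⟩⟩ := h
    rcases card_cases (K := K) with h2 | h2 | h2
    · exact (Cfsg.Agent.H584.Ore.ESixTwo.allC_E6_two h2).congr e.symm
    · exact (Cfsg.Agent.H150.E6T.ore_e6_three h2).congr e.symm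
    · exact (Cfsg.Agent.H194.Ore.rowE6 h2).1.congr e.symm
  e7 h := by
    obtain ⟨K, _, _, ⟨e⟩⟩ := h
    rcases card_cases (K := K) with h2 | h2 | h2
    · exact (Cfsg.Agent.H267.Ore.allC_E7_two (by rwa [Fintype.card_eq_nat_card])).congr e.symm
    · exact (Cfsg.Agent.H85.Ore.allC_E7 K (by omega)).congr e.symm
    · exact (Cfsg.Agent.H85.Ore.allC_E7 K (by omega)).congr e.symm
  e8 h := by
    obtain ⟨K, _, _, ⟨e⟩⟩ := h
    rcases card_cases (K := K) with h2 | h2 | h2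
    · exact (Cfsg.Agent.H122.Ore.Blk.allC_E8_two h2).congr e.symm
    · exact (Cfsg.Agent.H85.Ore.allC_E8 K (by omega)).congr e.symm
    · exact (Cfsg.Agent.H85.Ore.allC_E8 K (by omega)).congr e.symm
  te6 h := by
    obtain ⟨K, _, _, q, hq, hK, ⟨e⟩⟩ := h
    exact (Cfsg.Agent.H928.Ore.TwAll.row hq hK).1.congr e.symm
  td4 h := Cfsg.Agent.H538.Ore.ore_d4 h
  sz h := Cfsg.Agent.H538.Ore.ore_sz h
  ree h := Cfsg.Agent.H538.Ore.ore_ree h
  tf4 h := Cfsg.Agent.H143.Ore.ore_2f4 h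
  tits h := Cfsg.Agent.H143.Ore.ore_tits h

/-- products of four involutions in the exceptional groups, `F₄(2)` as hypothesis -/
theorem exc_inv4 (h42 : ∀ (K : Type) [Field K] [Finite K], Nat.card K = 2 → Inv4 ↥(chevF4.group K)) :
    ExcRows.{u} (fun G _ => Inv4 G) where
  g2 h := Cfsg.Agent.H538.Ore.four_g2 h
  f4 h := by
    obtain ⟨K, _, _, ⟨e⟩⟩ := h
    rcases card_cases (K := K) with h2 | h2 | h2
    · exact Inv4.congr e.symm (h42 K h2)
    · exact Inv4.congr e.symm (Cfsg.Agent.H374.Ore.F4.row_three h2).2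
    · exact Inv4.congr e.symm (Cfsg.Agent.H194.Ore.rowF4 h2).2
  e6 h := by
    obtain ⟨K, _, _, ⟨e⟩⟩ := h
    rcases card_cases (K := K) with h2 | h2 | h2
    · exact Inv4.congr e.symm (Cfsg.Agent.H584.Ore.ESixTwo.inv4_E6_two h2)
    · exact Inv4.congr e.symm (Cfsg.Agent.H150.E6T.inv_e6_three h2)
    · exact Inv4.congr e.symm (Cfsg.Agent.H194.Ore.rowE6 h2).2
  e7 h := by
    obtain ⟨K, _, _, ⟨e⟩⟩ := h
    rcases card_cases (K := K) with h2 | h2 | h2
    · exact Inv4.congr e.symm (Cfsg.Agent.H267.Ore.inv4_E7_two (by rwa [Fintype.card_eq_nat_card]))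
    · exact Inv4.congr e.symm (Cfsg.Agent.H85.Ore.inv4_E7 K (by omega))
    · exact Inv4.congr e.symm (Cfsg.Agent.H85.Ore.inv4_E7 K (by omega))
  e8 h := by
    obtain ⟨K, _, _, ⟨e⟩⟩ := h
    rcases card_cases (K := K) with h2 | h2 | h2
    · exact Inv4.congr e.symm (Cfsg.Agent.H122.Ore.Blk.inv4_E8_two h2)
    · exact Inv4.congr e.symm (Cfsg.Agent.H85.Ore.inv4_E8 K (by omega))
    · exact Inv4.congr e.symm (Cfsg.Agent.H85.Ore.inv4_E8 K (by omega))
  te6 h := by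
    obtain ⟨K, _, _, q, hq, hK, ⟨e⟩⟩ := h
    exact Inv4.congr e.symm (Cfsg.Agent.H928.Ore.TwAll.row hq hK).2
  td4 h := Cfsg.Agent.H538.Ore.four_d4 h
  sz h := Cfsg.Agent.H538.Ore.four_sz h
  ree h := Cfsg.Agent.H538.Ore.four_ree h
  tf4 h := Cfsg.Agent.H143.Ore.four_2f4 h
  tits h := Cfsg.Agent.H143.Ore.four_tits h

end Cfsg.Agent.H459.Ore
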