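import Cfsg.Agent.H459.Ore.Frame
import Cfsg.Agent.H922.Ore.MTwelve
import Cfsg.Agent.H334.Ore.M22
import Cfsg.Agent.H334.Ore.M23
import Cfsg.Agent.H334.Ore.M24
import Cfsg.Agent.H90.Four.JOneTwo
import Cfsg.Agent.H455.Ore.JPw
import Cfsg.Agent.H854.Ore.J4Four
import Cfsg.Agent.H995.Co1F.Four
import Cfsg.Agent.H633.Ore.Co2Ore
import Cfsg.Agent.H763.Co3.Fin
import Cfsg.Agent.H235.Ore.McL
import Cfsg.Agent.H922.Ore.HSFinal
import Cfsg.Agent.H763.Ore.SuzFin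
import Cfsg.Agent.H235.Ore.He
import Cfsg.Agent.H51.Ore.RuMain
import Cfsg.Agent.H535.Ore.ON
import Cfsg.Agent.H204.Ore.Ly
import Cfsg.Agent.H123.Cls.FiOre
import Cfsg.Agent.H856.F23.Row
import Cfsg.Agent.H75.Ore.ThFour

/-!
# The sporadic rows of S4171 (helper459), from the last four rows `Fi24'`, `HN`, `B`, `M`
-/

set_option autoImplicit false

namespace Cfsg.Agent.H459.Ore

open Cfsg Cfsg.Agent.H777.Ore

universe u

theorem four_spor_of (hK : Cfsg.Agent.H995.CopEngine.AllKnown.{0})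
    (fi24 : ∀ {G : Type u} [Group G], Spor.IsoFi24' G → Inv4 G)
    (hN : ∀ {G : Type u} [Group G], Spor.IsoHN G → Inv4 G)
    (b : ∀ {G : Type u} [Group G], Spor.IsoB G → Inv4 G)
    (m : ∀ {G : Type u} [Group G], Spor.IsoM G → Inv4 G) : SporRows.{u} (fun G _ => Inv4 G) where
  m11 h := Cfsg.Agent.H922.Ore.four_m11 h
  m12 h := Cfsg.Agent.H922.Ore.four_m12 h
  m22 h := Cfsg.Agent.H334.Ore.four_m22 h
  m23 h := Cfsg.Agent.H334.Ore.four_m23 h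
  m24 h := Cfsg.Agent.H334.Ore.four_m24 h
  j1 h := Cfsg.Agent.H90.Four.four_j1 h
  j2 h := Cfsg.Agent.H90.Four.four_j2 h
  j3 h := Cfsg.Agent.H455.Ore.four_j3 h
  j4 h := Cfsg.Agent.H854.Ore.four_J4 h
  co1 h := Cfsg.Agent.H995.four_Co1 h
  co2 h := Cfsg.Agent.H633.Ore.Co2.four_co2 h
  co3 h := Cfsg.Agent.H763.Co3.Fin.four_co3 h
  mcL h := Cfsg.Agent.H235.Ore.McL.four_McL h
  hS h := Cfsg.Agent.H922.Ore.HS.four_hs h
  suz h := Cfsg.Agent.H763.Ore.SuzFin.four_suz h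
  he h := Cfsg.Agent.H235.Ore.He.four_He h
  ru h := Cfsg.Agent.H51.Ore.Ru.four_ru h
  oN h := Cfsg.Agent.H535.Ore.ON.four_on h
  ly h := Cfsg.Agent.H204.Ore.Ly.four_Ly hK h
  fi22 h := Cfsg.Agent.H123.Cls.FiDat.four_fi22 h
  fi23 h := Cfsg.Agent.H856.F23.four_Fi23 h
  fi24 h := fi24 h
  hN h := hN h
  th h := Cfsg.Agent.H75.Ore.ThFour.four_th h
  b h := b h
  m h := m h

end Cfsg.Agent.H459.Ore
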